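import Cfsg.Agent.Lib.PermAffine.ExtPrimSimple

/-!
# Extremely primitive groups of affine type

The point stabiliser of an insoluble extremely primitive affine group acts irreducibly on the regular
normal subgroup, and the stabilisers of nonidentity elements are maximal.
-/

set_option autoImplicit false
set_option linter.style.haveILetI false
set_option linter.unusedSectionVars false

open Subgroup

namespace CfsgLib.PermAffine

variable {G Ω : Type*} [Group G] [MulAction G Ω]

/-- The point stabiliser acting by conjugation on a normal subgroup, written additively. -/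
@[reducible] def stabConjAction (N : Subgroup G) [N.Normal] (α : Ω) :
    DistribMulAction (MulAction.stabilizer G α) (Additive N) where
  smul h v := Additive.ofMul (MulAut.conjNormal (h : G) v.toMul)
  one_smul v := by
    show Additive.ofMul (MulAut.conjNormal ((1 : MulAction.stabilizer G α) : G) v.toMul) = v
    simp
  mul_smul g h v := by
    show Additive.ofMul (MulAut.conjNormal ((g * h : MulAction.stabilizer G α) : G) v.toMul) = _
    rw [Subgroup.coe_mul, map_mul]
    rfl
  smul_zero h := by
    show Additive.ofMul (MulAut.conjNormal (h : G) (1 : N)) = 0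
    rw [map_one]
    rfl
  smul_add h v w := by
    show Additive.ofMul (MulAut.conjNormal (h : G) (v.toMul * w.toMul)) = _
    rw [map_mul]
    rfl

theorem extremelyPrimitive_affine [Finite G] [FaithfulSMul G Ω] [Fintype Ω] (p d : ℕ) (hp : p.Prime)
    (hcard : Fintype.card Ω = p ^ d) (hsol : ¬ Group.IsSolvable G) (N : Subgroup G) [N.Normal]
    (hN : N ≠ ⊥) (hNc : IsMulCommutative N) (hNreg : ∀ ω : Ω, MulAction.stabilizer N ω = ⊥)
    (hprim : MulAction.IsPreprimitive G Ω)
    (hep : ∀ (α ω : Ω), MulAction.IsPreprimitive (MulAction.stabilizer G α)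
      (MulAction.orbit (MulAction.stabilizer G α) ω)) (α : Ω) :
    p = 2 ∧ ∃ T : Subgroup (MulAction.stabilizer G α), T.Normal ∧ IsSimpleGroup T ∧
      ¬ IsMulCommutative T ∧ centralizer (T : Set (MulAction.stabilizer G α)) = ⊥ := by
  haveI := hprim
  have htrans : ∀ (K : Subgroup G), K.Normal → K ≠ ⊥ → MulAction.IsPretransitive K Ω := by
    intro K hK hK0
    haveI := hK
    refine MulAction.IsQuasiPreprimitive.isPretransitive_of_normal fun h => hK0 ?_
    refine (Subgroup.eq_bot_iff_forall K).2 fun k hk => eq_of_smul_eq_smul (α := Ω) fun ω => ?_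
    rw [one_smul]
    exact (h.ge (Set.mem_univ ω)) ⟨k, hk⟩
  haveI := htrans N inferInstance hN
  have hbij : Function.Bijective fun n : N => n • α := by
    refine ⟨fun a b hab => ?_, fun ω => MulAction.exists_smul_eq N α ω⟩
    have : b⁻¹ * a ∈ MulAction.stabilizer N α := by
      rw [MulAction.mem_stabilizer_iff, mul_smul, inv_smul_eq_iff]
      exact hab
    rw [hNreg, mem_bot] at this
    exact (inv_mul_eq_one.1 this).symm
  have hNcard : Nat.card N = p ^ d := by
    rw [Nat.card_eq_of_bijective _ hbij, Nat.card_eq_fintype_card, hcard]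
  have hd : d ≠ 0 := fun h => by
    rw [h, pow_zero] at hNcard
    exact hN (Subgroup.card_eq_one.1 hNcard)
  set H := MulAction.stabilizer G α with hH
  have hcommN : ∀ a ∈ N, ∀ b ∈ N, a * b = b * a := fun a ha b hb =>
    congrArg Subtype.val (hNc.is_comm.comm (⟨a, ha⟩ : N) ⟨b, hb⟩)
  have hprod : ∀ g : G, ∃ n ∈ N, ∃ h ∈ H, n * h = g := fun g => by
    obtain ⟨n, hn⟩ := MulAction.exists_smul_eq N α (g • α)
    refine ⟨n, n.2, (n : G)⁻¹ * g, ?_, mul_inv_cancel_left _ _⟩
    rw [hH, MulAction.mem_stabilizer_iff, mul_smul, inv_smul_eq_iff]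
    exact hn.symm
  haveI hNsol : Group.IsSolvable N :=
    Group.isSolvable_of_comm fun a b => Subtype.ext (hcommN _ a.2 _ b.2)
  have hHsol : ¬ Group.IsSolvable H := fun h => hsol (by
    haveI := h
    haveI : Group.IsSolvable (G ⧸ N) := Group.isSolvable_of_surjective
      (f := (QuotientGroup.mk' N).comp H.subtype) fun x => by
        induction x using QuotientGroup.induction_on with
        | H g =>
          obtain ⟨n, hn, k, hk, rfl⟩ := hprod g
          refine ⟨⟨k, hk⟩, QuotientGroup.eq.2 ?_⟩
          show k⁻¹ * (n * k) ∈ N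
          have := ‹N.Normal›.conj_mem n hn k⁻¹
          rwa [inv_inv, mul_assoc] at this
    exact Group.isSolvable_of_ker_le_range N.subtype (QuotientGroup.mk' N)
      (by rw [QuotientGroup.ker_mk', Subgroup.range_subtype]))
  -- invariant subgroups
  have hinv : ∀ K : Subgroup G, K ≤ N → (∀ h ∈ H, ∀ k ∈ K, h * k * h⁻¹ ∈ K) → K = ⊥ ∨ K = N := by
    intro K hKN hK
    have hKn : K.Normal := ⟨fun k hk g => by
      obtain ⟨n, hn, h, hh, rfl⟩ := hprod g
      have h1 := hK h hh k hk
      rw [show n * h * k * (n * h)⁻¹ = n * (h * k * h⁻¹) * n⁻¹ by group,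
        hcommN n hn _ (hKN h1), mul_inv_cancel_right]
      exact h1⟩
    by_cases hK0 : K = ⊥
    · exact Or.inl hK0
    refine Or.inr (le_antisymm hKN fun n hn => ?_)
    haveI := htrans K hKn hK0
    obtain ⟨k, hk⟩ := MulAction.exists_smul_eq K α (n • α)
    have := hbij.1 (show (fun n : N => n • α) ⟨k, hKN k.2⟩ = (fun n : N => n • α) ⟨n, hn⟩ from hk)
    have he : (k : G) = n := congrArg Subtype.val this
    exact he ▸ k.2
  letI : CommGroup N := { (inferInstance : Group N) with mul_comm := fun a b => hNc.is_comm.comm a b }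
  letI := stabConjAction N α
  have hsmul : ∀ (h : H) (v : Additive N),
      (((h • v).toMul : N) : G) = h * (v.toMul : G) * (h : G)⁻¹ :=
    fun h v => MulAut.conjNormal_apply _ _
  have hexp : ∀ v : Additive N, p • v = 0 := by
    let K : Subgroup G :=
      { carrier := {x | x ∈ N ∧ x ^ p = 1}
        one_mem' := ⟨one_mem N, one_pow p⟩
        mul_mem' := fun {x y} hx hy => ⟨mul_mem hx.1 hy.1, by
          rw [Commute.mul_pow (hcommN x hx.1 y hy.1), hx.2, hy.2, one_mul]⟩
        inv_mem' := fun {x} hx => ⟨inv_mem hx.1, by rw [inv_pow, hx.2, inv_one]⟩ }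
    have hKN : K = N := by
      refine (hinv K (fun x hx => hx.1) fun h _ k hk =>
        ⟨‹N.Normal›.conj_mem k hk.1 h, by rw [conj_pow, hk.2, mul_one, mul_inv_cancel]⟩).resolve_left ?_
      intro h0
      haveI : Fact p.Prime := ⟨hp⟩
      obtain ⟨x, hx⟩ := exists_prime_orderOf_dvd_card' (G := N) p (hNcard ▸ dvd_pow_self p hd)
      have hmem : (x : G) ∈ K := ⟨x.2, by rw [← hx, ← Subgroup.orderOf_coe, pow_orderOf_eq_one]⟩
      rw [h0, mem_bot, OneMemClass.coe_eq_one] at hmem
      rw [hmem, orderOf_one] at hx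
      exact hp.one_lt.ne' hx.symm
    intro v
    have : (v.toMul : G) ∈ K := hKN.ge v.toMul.2
    exact congrArg Additive.ofMul (show v.toMul ^ p = 1 from Subtype.ext this.2)
  have hirred : ∀ W : AddSubgroup (Additive N), (∀ h : H, ∀ w ∈ W, h • w ∈ W) → W = ⊥ ∨ W = ⊤ := by
    intro W hW
    let K : Subgroup G :=
      { carrier := {x | ∃ w ∈ W, (w.toMul : G) = x}
        one_mem' := ⟨0, W.zero_mem, rfl⟩
        mul_mem' := by
          rintro _ _ ⟨a, ha, rfl⟩ ⟨b, hb, rfl⟩
          exact ⟨a + b, W.add_mem ha hb, rfl⟩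
        inv_mem' := by
          rintro _ ⟨a, ha, rfl⟩
          exact ⟨-a, W.neg_mem ha, rfl⟩ }
    rcases hinv K (fun x ⟨w, _, hw⟩ => hw ▸ w.toMul.2) (fun h hh k ⟨w, hw, hk⟩ =>
      ⟨(⟨h, hh⟩ : H) • w, hW _ w hw, by rw [hsmul, hk]⟩) with h0 | h0
    · refine Or.inl ((AddSubgroup.eq_bot_iff_forall W).2 fun w hw => ?_)
      have : (w.toMul : G) ∈ K := ⟨w, hw, rfl⟩
      rw [h0, mem_bot, OneMemClass.coe_eq_one] at this
      exact congrArg Additive.ofMul this
    · refine Or.inr (eq_top_iff.2 fun v _ => ?_)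
      have : (v.toMul : G) ∈ K := h0.ge v.toMul.2
      obtain ⟨w, hw, he⟩ := this
      rwa [show v = w from congrArg Additive.ofMul (Subtype.ext he.symm)]
  have horb : ∀ (h : H) (v : Additive N), h • (v.toMul • α) = (h • v).toMul • α := by
    intro h v
    show (h : G) • ((v.toMul : G) • α) = (((h • v).toMul : N) : G) • α
    rw [hsmul, mul_smul, mul_smul,
      inv_smul_eq_iff.2 (MulAction.mem_stabilizer_iff.1 h.2).symm]
  have hfix : ∀ (h : H) (v : Additive N), h • v = v ↔ h • (v.toMul • α) = v.toMul • α := by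
    intro h v
    rw [horb]
    exact ⟨fun e => by rw [e], fun e => congrArg Additive.ofMul (hbij.1 e)⟩
  have hfaith : ∀ h : H, (∀ v : Additive N, h • v = v) → h = 1 := fun h hh => by
    refine Subtype.ext (eq_of_smul_eq_smul (α := Ω) fun ω => ?_)
    obtain ⟨n, rfl⟩ := hbij.2 ω
    rw [OneMemClass.coe_one, one_smul]
    exact (hfix h (Additive.ofMul n)).1 (hh _)
  have hcoatom : ∀ v : Additive N, v ≠ 0 → IsCoatom (MulAction.stabilizer H v) := by
    intro v hv
    have hmov : ∃ h : H, h • v ≠ v := by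
      by_contra hall
      push Not at hall
      rcases hirred (AddSubgroup.zmultiples v) (fun h x hx => by
          obtain ⟨i, rfl⟩ := AddSubgroup.mem_zmultiples_iff.1 hx
          rw [smul_zsmul_vec, hall]
          exact AddSubgroup.zsmul_mem_zmultiples v i) with h | h
      · exact hv (AddSubgroup.mem_bot.1 (h ▸ AddSubgroup.mem_zmultiples v))
      · refine hHsol (Group.isSolvable_of_comm fun a b => ?_)
        have htriv : ∀ c : H, c = 1 := fun c => hfaith c fun w => by
          obtain ⟨i, rfl⟩ := AddSubgroup.mem_zmultiples_iff.1 (h ▸ AddSubgroup.mem_top w)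
          rw [smul_zsmul_vec, hall]
        rw [htriv a, htriv b]
    set ω := v.toMul • α with hω
    haveI := hep α ω
    obtain ⟨h, hh⟩ := hmov
    haveI : Nontrivial (MulAction.orbit H ω) :=
      ⟨⟨⟨h • ω, MulAction.mem_orbit ω h⟩, ⟨ω, MulAction.mem_orbit_self ω⟩, fun he =>
        hh ((hfix h v).2 (congrArg Subtype.val he))⟩⟩
    have hco : IsCoatom (MulAction.stabilizer H (⟨ω, MulAction.mem_orbit_self ω⟩ : MulAction.orbit H ω)) :=
      MulAction.IsPreprimitive.isCoatom_stabilizer_of_isPreprimitive _ _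
    convert hco using 1
    ext k
    rw [MulAction.mem_stabilizer_iff, MulAction.mem_stabilizer_iff, hfix]
    exact ⟨fun e => Subtype.ext e, fun e => congrArg Subtype.val e⟩
  have e : ExtPrim H (Additive N) := ⟨hirred, hfaith, hcoatom, hHsol⟩
  haveI : Finite (Additive N) := Finite.of_equiv _ Additive.ofMul
  have h2 := e.two_torsion hp hexp
  refine ⟨?_, e.almostSimple h2⟩
  haveI := e.nontrivial
  obtain ⟨v, hv⟩ := exists_ne (0 : Additive N)
  haveI : Fact p.Prime := ⟨hp⟩
  have ho : addOrderOf v = p := addOrderOf_eq_prime (hexp v) hv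
  have h22 : addOrderOf v ∣ 2 := addOrderOf_dvd_of_nsmul_eq_zero (by rw [two_nsmul, h2])
  rw [ho] at h22
  exact (Nat.prime_dvd_prime_iff_eq hp Nat.prime_two).1 h22

end CfsgLib.PermAffine
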