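import Mathlib
import Cfsg.Agent.Lib.Coprime.Fitting
import Cfsg.Agent.Lib.FT.NoMinSimple

/-!
# Irreducible linear groups all of whose vector stabilisers are maximal

`H` acts irreducibly and faithfully on an elementary abelian group `V`, the stabiliser of every
nonzero vector is a maximal subgroup of `H`, and `H` is not solvable.  Then `V` has exponent two and
every minimal normal subgroup of `H` is nonsolvable with trivial centraliser.
-/

set_option autoImplicit false
set_option linter.style.haveILetI false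
set_option linter.unusedSectionVars false

open Subgroup

namespace CfsgLib.PermAffine

/-- An insoluble, faithful, irreducible linear group whose vector stabilisers are maximal. -/
structure ExtPrim (H V : Type*) [Group H] [AddCommGroup V] [DistribMulAction H V] : Prop where
  irred : ∀ W : AddSubgroup V, (∀ h : H, ∀ w ∈ W, h • w ∈ W) → W = ⊥ ∨ W = ⊤
  faithful : ∀ h : H, (∀ v : V, h • v = v) → h = 1
  coatom : ∀ v : V, v ≠ 0 → IsCoatom (MulAction.stabilizer H v)
  insol : ¬ Group.IsSolvable H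

variable {H V : Type*} [Group H] [AddCommGroup V] [DistribMulAction H V]

/-- The vectors fixed by a subgroup. -/
def fixV (K : Subgroup H) : AddSubgroup V where
  carrier := {w | ∀ k ∈ K, k • w = w}
  zero_mem' := fun k _ => smul_zero k
  add_mem' := fun {a b} ha hb k hk => by rw [smul_add, ha k hk, hb k hk]
  neg_mem' := fun {a} ha k hk => by rw [smul_neg, ha k hk]

theorem smul_zsmul_vec (h : H) (i : ℤ) (u : V) : h • (i • u) = i • (h • u) :=
  map_zsmul (DistribSMul.toAddMonoidHom V h) i u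

theorem mem_fixV {K : Subgroup H} {w : V} : w ∈ fixV K ↔ ∀ k ∈ K, k • w = w := Iff.rfl

theorem smul_mem_fixV {K : Subgroup H} {h : H} (hn : h ∈ normalizer (K : Set H)) {w : V}
    (hw : w ∈ fixV K) : h • w ∈ fixV K := by
  intro k hk
  have h1 : h⁻¹ * k * h ∈ K := (mem_normalizer_iff''.1 hn k).1 hk
  have h2 := hw _ h1
  rw [mul_smul, mul_smul] at h2
  have h3 := congrArg (h • ·) h2
  simpa using h3

namespace ExtPrim

variable [Finite H] [Finite V] (e : ExtPrim H V)
include e

theorem nontrivial : Nontrivial V := by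
  by_contra hV
  rw [not_nontrivial_iff_subsingleton] at hV
  have : Subsingleton H := ⟨fun a b => by
    rw [e.faithful a fun v => Subsingleton.elim _ _, e.faithful b fun v => Subsingleton.elim _ _]⟩
  exact e.insol (Group.isSolvable_of_comm fun a b => Subsingleton.elim _ _)

theorem eq_bot_of_le_stab {K : Subgroup H} (hK : K.Normal) {v : V} (hv : v ≠ 0)
    (hle : K ≤ MulAction.stabilizer H v) : K = ⊥ := by
  haveI := hK
  rcases e.irred (fixV K) (fun h w hw => smul_mem_fixV (by rw [normalizer_eq_top]; trivial) hw)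
    with h | h
  · have : v ∈ fixV (V := V) K := fun k hk => hle hk
    rw [h, AddSubgroup.mem_bot] at this
    exact absurd this hv
  · refine (Subgroup.eq_bot_iff_forall K).2 fun k hk => e.faithful k fun w => ?_
    have : w ∈ fixV (V := V) K := h ▸ AddSubgroup.mem_top w
    exact this k hk

theorem sup_stab {K : Subgroup H} (hK : K.Normal) (hK0 : K ≠ ⊥) {v : V} (hv : v ≠ 0) :
    K ⊔ MulAction.stabilizer H v = ⊤ := by
  refine (e.coatom v hv).2 _ (lt_of_le_of_ne le_sup_right fun h => hK0 ?_)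
  exact e.eq_bot_of_le_stab hK hv (h ▸ le_sup_left)

theorem exists_decomp {K : Subgroup H} (hK : K.Normal) (hK0 : K ≠ ⊥) {v : V} (hv : v ≠ 0) (h : H) :
    ∃ k ∈ K, ∃ m ∈ MulAction.stabilizer H v, k * m = h := by
  haveI := hK
  have : h ∈ K ⊔ MulAction.stabilizer H v := e.sup_stab hK hK0 hv ▸ mem_top h
  exact mem_sup_of_normal_left.1 this

/-- A normal subgroup in which vector stabilisers are invariant acts semiregularly. -/
theorem semiregular {K : Subgroup H} (hK : K.Normal)
    (hc : ∀ v : V, v ≠ 0 → ∀ h : H, ∀ k ∈ K, k • v = v → h * k * h⁻¹ ∈ MulAction.stabilizer H v)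
    {k : H} (hk : k ∈ K) {v : V} (hv : v ≠ 0) (hf : k • v = v) : k = 1 := by
  haveI := hK
  set L : Subgroup H := K ⊓ MulAction.stabilizer H v with hL
  have hLn : L.Normal := ⟨fun x hx h =>
    ⟨hK.conj_mem x hx.1 h, hc v hv h x hx.1 (MulAction.mem_stabilizer_iff.1 hx.2)⟩⟩
  have hL0 : L = ⊥ := e.eq_bot_of_le_stab hLn hv inf_le_right
  have : k ∈ L := ⟨hk, MulAction.mem_stabilizer_iff.2 hf⟩
  rwa [hL0, mem_bot] at this

/-- A nonidentity element with eigenvalue `-1` gives a line whose stabiliser is too large. -/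
theorem two_torsion {p : ℕ} (hp : p.Prime) (hexp : ∀ v : V, p • v = 0) (v : V) : v + v = 0 := by
  by_cases hp2 : p = 2
  · subst hp2
    simpa [two_nsmul] using hexp v
  exfalso
  have hodd : ∀ u : V, u = -u → u = 0 := by
    intro u hu
    obtain ⟨j, hj⟩ := hp.odd_of_ne_two hp2
    have h2 : 2 • u = 0 := by rw [two_nsmul]; nth_rewrite 2 [hu]; exact add_neg_cancel u
    have := hexp u
    rw [hj, add_nsmul, mul_comm, mul_nsmul', h2, smul_zero, zero_add, one_nsmul] at this
    exact this
  refine e.insol (CfsgLib.FT.isSolvable_of_odd H ?_)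
  by_contra hev
  rw [Nat.not_odd_iff_even, even_iff_two_dvd] at hev
  haveI : Fact (Nat.Prime 2) := ⟨Nat.prime_two⟩
  obtain ⟨z, hz⟩ := exists_prime_orderOf_dvd_card' (G := H) 2 hev
  have hz2 : ∀ w : V, z • z • w = w := fun w => by
    rw [← mul_smul, ← pow_two, ← hz, pow_orderOf_eq_one, one_smul]
  have hz1 : z ≠ 1 := fun h => by rw [h, orderOf_one] at hz; omega
  obtain ⟨w, hw⟩ : ∃ w : V, z • w ≠ w := by
    by_contra hall
    push Not at hall
    exact hz1 (e.faithful z hall)
  set u : V := z • w - w with hu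
  have hu0 : u ≠ 0 := sub_ne_zero.2 hw
  have hzu : z • u = -u := by rw [hu, smul_sub, hz2]; abel
  let L : Subgroup H :=
    { carrier := {h | h • u = u ∨ h • u = -u}
      one_mem' := Or.inl (one_smul H u)
      mul_mem' := fun {a b} ha hb => by
        rcases ha with ha | ha <;> rcases hb with hb | hb
        · exact Or.inl (by rw [mul_smul, hb, ha])
        · exact Or.inr (by rw [mul_smul, hb, smul_neg, ha])
        · exact Or.inr (by rw [mul_smul, hb, ha])
        · exact Or.inl (by rw [mul_smul, hb, smul_neg, ha, neg_neg])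
      inv_mem' := fun {a} ha => by
        rcases ha with ha | ha
        · exact Or.inl (inv_smul_eq_iff.2 ha.symm)
        · exact Or.inr (inv_smul_eq_iff.2 (by rw [smul_neg, ha, neg_neg])) }
  have hlt : MulAction.stabilizer H u < L := by
    refine lt_of_le_of_ne (fun h hh => Or.inl (MulAction.mem_stabilizer_iff.1 hh)) fun h => ?_
    have hzL : z ∈ L := Or.inr hzu
    rw [← h, MulAction.mem_stabilizer_iff, hzu] at hzL
    exact hu0 (hodd u hzL.symm)
  have htop := (e.coatom u hu0).2 L hlt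
  have hmem : ∀ h : H, h • u = u ∨ h • u = -u := fun h =>
    (show h ∈ L from htop ▸ mem_top h)
  rcases e.irred (AddSubgroup.zmultiples u) (fun h x hx => by
    obtain ⟨i, rfl⟩ := AddSubgroup.mem_zmultiples_iff.1 hx
    rw [smul_zsmul_vec]
    rcases hmem h with hh | hh <;> rw [hh]
    · exact AddSubgroup.zsmul_mem_zmultiples u i
    · exact AddSubgroup.zsmul_mem _ (neg_mem (AddSubgroup.mem_zmultiples u)) i) with hb | htp
  · exact hu0 (AddSubgroup.mem_bot.1 (hb ▸ AddSubgroup.mem_zmultiples u))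
  have hgen : ∀ h : H, ∀ x : V, ∀ s : V, h • u = s → (s = u → h • x = x) ∧ (s = -u → h • x = -x) := by
    intro h x s hs
    obtain ⟨i, rfl⟩ := AddSubgroup.mem_zmultiples_iff.1 (htp ▸ AddSubgroup.mem_top x)
    rw [smul_zsmul_vec, hs]
    exact ⟨fun h' => by rw [h'], fun h' => by rw [h', zsmul_neg]⟩
  refine e.insol (Group.isSolvable_of_comm fun a b => ?_)
  have hca : ∀ x : V, (a * b) • x = (b * a) • x := by
    intro x
    rcases hmem a with ha | ha <;> rcases hmem b with hb | hb
    all_goals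
      simp only [mul_smul]
    · rw [(hgen a _ _ ha).1 rfl, (hgen b x _ hb).1 rfl, (hgen a x _ ha).1 rfl, (hgen b x _ hb).1 rfl]
    · rw [(hgen a _ _ ha).1 rfl, (hgen b x _ hb).2 rfl, (hgen a x _ ha).1 rfl, (hgen b x _ hb).2 rfl]
    · rw [(hgen a _ _ ha).2 rfl, (hgen b x _ hb).1 rfl, (hgen a x _ ha).2 rfl, smul_neg,
        (hgen b x _ hb).1 rfl]
    · rw [(hgen a _ _ ha).2 rfl, (hgen b x _ hb).2 rfl, (hgen a x _ ha).2 rfl, smul_neg,
        (hgen b x _ hb).2 rfl]
  refine inv_mul_eq_one.1 (e.faithful ((a * b)⁻¹ * (b * a)) fun x => ?_)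
  rw [mul_smul, ← hca, inv_smul_smul]

variable (h2 : ∀ v : V, v + v = 0)
include h2

theorem neg_eq (v : V) : -v = v := neg_eq_of_add_eq_zero_left (h2 v)

/-- An element of order at most two fixes a nonzero vector. -/
theorem exists_fix {z : H} (hz : z * z = 1) : ∃ u : V, u ≠ 0 ∧ z • u = u := by
  haveI := e.nontrivial
  obtain ⟨w, hw⟩ := exists_ne (0 : V)
  by_cases h : z • w = w
  · exact ⟨w, hw, h⟩
  refine ⟨z • w + w, fun h0 => h ?_, by rw [smul_add, ← mul_smul, hz, one_smul, add_comm]⟩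
  rw [add_eq_zero_iff_eq_neg.1 h0, e.neg_eq h2]

theorem odd_of_semiregular {K : Subgroup H}
    (hsr : ∀ k ∈ K, ∀ v : V, v ≠ 0 → k • v = v → k = 1) : Odd (Nat.card K) := by
  by_contra hev
  rw [Nat.not_odd_iff_even, even_iff_two_dvd] at hev
  haveI : Fact (Nat.Prime 2) := ⟨Nat.prime_two⟩
  obtain ⟨z, hz⟩ := exists_prime_orderOf_dvd_card' (G := K) 2 hev
  have hz' : orderOf (z : H) = 2 := by rwa [orderOf_coe]
  have hzz : (z : H) * z = 1 := by rw [← pow_two, ← hz', pow_orderOf_eq_one]
  obtain ⟨u, hu, hu'⟩ := e.exists_fix h2 hzz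
  rw [hsr z z.2 u hu hu', orderOf_one] at hz'
  omega

/-- An abelian minimal normal subgroup would make `H` solvable. -/
theorem not_abelian {A : Subgroup H} (hA : A.Normal) (hA0 : A ≠ ⊥)
    (hcomm : ∀ x ∈ A, ∀ y ∈ A, x * y = y * x) {r : ℕ} (hr : r.Prime)
    (hexp : ∀ x ∈ A, x ^ r = 1) : False := by
  haveI := hA
  haveI := e.nontrivial
  have hsr : ∀ k ∈ A, ∀ v : V, v ≠ 0 → k • v = v → k = 1 := fun k hk v hv hf =>
    e.semiregular hA (fun v hv h x hx hxv => by
      obtain ⟨a, ha, m, hm, rfl⟩ := e.exists_decomp hA hA0 hv h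
      have hmx : m * x * m⁻¹ ∈ A := hA.conj_mem x hx m
      have : a * m * x * (a * m)⁻¹ = m * x * m⁻¹ := by
        rw [show a * m * x * (a * m)⁻¹ = a * (m * x * m⁻¹) * a⁻¹ by group, hcomm a ha _ hmx]
        group
      rw [this]
      exact mul_mem (mul_mem hm (MulAction.mem_stabilizer_iff.2 hxv)) (inv_mem hm)) hk hv hf
  have hr2 : Odd r := by
    rcases hr.eq_two_or_odd' with h | h
    · exfalso
      obtain ⟨x, hx, hx1⟩ := (bot_or_exists_ne_one A).resolve_left hA0
      have hxx : x * x = 1 := by rw [← pow_two, ← h, hexp x hx]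
      obtain ⟨u, hu, hu'⟩ := e.exists_fix h2 hxx
      exact hx1 (hsr x hx u hu hu')
    · exact h
  obtain ⟨x, hx, hx1⟩ := (bot_or_exists_ne_one A).resolve_left hA0
  haveI : Fact r.Prime := ⟨hr⟩
  have hord : ∀ y ∈ A, y ≠ 1 → orderOf y = r := fun y hy hy1 => orderOf_eq_prime (hexp y hy) hy1
  -- the sum over the powers of a nonidentity element is zero
  have hsum : ∀ y ∈ A, y ≠ 1 → ∀ u : V, ∑ i : ZMod r, (y ^ i.val) • u = 0 := by
    intro y hy hy1 u
    by_contra hne
    refine hy1 (hsr y hy _ hne ?_)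
    rw [Finset.smul_sum]
    refine Fintype.sum_equiv (Equiv.addRight 1) _ _ fun i => ?_
    rw [← mul_smul, ← pow_succ', Equiv.coe_addRight, ZMod.val_add, ZMod.val_one r]
    rw [← pow_mod_orderOf, hord y hy hy1]
  have hcyc : A = zpowers x := by
    refine le_antisymm (fun y hy => ?_) (zpowers_le.2 hx)
    by_contra hy0
    obtain ⟨u, hu⟩ := exists_ne (0 : V)
    have hy1 : y ≠ 1 := fun h => hy0 (h ▸ one_mem _)
    have hxy : ∀ j : ℕ, x ^ j * y ≠ 1 := fun j h => hy0 (by
      rw [eq_inv_of_mul_eq_one_right h]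
      exact inv_mem (pow_mem (mem_zpowers x) j))
    have hT : ∑ j : ZMod r, ∑ i : ZMod r, ((x ^ j.val * y) ^ i.val) • u = 0 :=
      Finset.sum_eq_zero fun j _ => hsum _ (mul_mem (pow_mem hx _) hy) (hxy _) u
    rw [Finset.sum_comm] at hT
    have hi : ∀ i : ZMod r, i ≠ 0 → ∑ j : ZMod r, ((x ^ j.val * y) ^ i.val) • u = 0 := by
      intro i hi
      have h0 := hsum x hx hx1 (y ^ i.val • u)
      rw [← h0]
      refine Fintype.sum_equiv (Equiv.mulRight₀ i hi) _ _ fun j => ?_
      rw [← mul_smul, (Commute.pow_left (hcomm x hx y hy) j.val).mul_pow, ← pow_mul,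
        Equiv.mulRight₀_apply, ZMod.val_mul, ← pow_mod_orderOf, hord x hx hx1]
    rw [Finset.sum_eq_single (0 : ZMod r) (fun i _ h => hi i h)
      (fun h => absurd (Finset.mem_univ _) h)] at hT
    simp only [ZMod.val_zero, pow_zero, one_smul, Finset.sum_const, Finset.card_univ,
      ZMod.card] at hT
    obtain ⟨j, hj⟩ := hr2
    rw [hj, add_nsmul, mul_nsmul, two_nsmul, h2, smul_zero, zero_add, one_nsmul] at hT
    exact hu hT
  haveI : IsCyclic A := by rw [hcyc]; infer_instance
  refine e.insol ?_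
  let φ : H →* MulAut A := MulAut.conjNormal
  have hker : φ.ker ≤ A.subtype.range := by
    intro c hc
    rw [Subgroup.range_subtype]
    haveI := e.nontrivial
    obtain ⟨v, hv⟩ := exists_ne (0 : V)
    obtain ⟨a, ha, m, hm, rfl⟩ := e.exists_decomp hA hA0 hv c
    have hcen : ∀ g ∈ φ.ker, ∀ y ∈ A, g * y * g⁻¹ = y := fun g hg y hy => by
      have := congrArg (fun σ : MulAut A => (σ ⟨y, hy⟩ : H)) (MonoidHom.mem_ker.1 hg)
      simpa [φ, MulAut.conjNormal_apply] using this
    have hakr : a ∈ φ.ker := by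
      rw [MonoidHom.mem_ker]
      ext y
      simp only [φ, MulAut.conjNormal_apply, MulAut.one_apply]
      rw [hcomm a ha _ y.2, mul_inv_cancel_right]
    have hmk : m ∈ φ.ker := by
      have := mul_mem (inv_mem hakr) hc
      rwa [inv_mul_cancel_left] at this
    have hm1 : m = 1 := e.semiregular (K := φ.ker) inferInstance (fun v hv h g hg hgv => by
      obtain ⟨b, hb, n, hn, rfl⟩ := e.exists_decomp hA hA0 hv h
      have hng : n * g * n⁻¹ ∈ φ.ker := Subgroup.Normal.conj_mem inferInstance g hg n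
      have h1 : b * n * g * (b * n)⁻¹ = n * g * n⁻¹ := by
        have h3 : n * g * n⁻¹ * b = b * (n * g * n⁻¹) := mul_inv_eq_iff_eq_mul.1 (hcen _ hng b hb)
        rw [show b * n * g * (b * n)⁻¹ = b * (n * g * n⁻¹) * b⁻¹ by group, ← h3]
        group
      rw [h1]
      exact mul_mem (mul_mem hn (MulAction.mem_stabilizer_iff.2 hgv)) (inv_mem hn))
      hmk hv (MulAction.mem_stabilizer_iff.1 hm)
    rw [hm1, mul_one]
    exact ha
  haveI : Group.IsSolvable A := Group.isSolvable_of_comm fun a b => Subtype.ext (hcomm _ a.2 _ b.2)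
  let e' := IsCyclic.mulAutMulEquiv A
  haveI : Group.IsSolvable (MulAut A) := Group.isSolvable_of_comm fun a b =>
    e'.injective (by rw [map_mul, map_mul, mul_comm])
  exact Group.isSolvable_of_ker_le_range A.subtype φ hker

/-- Minimal normal subgroups are nonsolvable, with trivial centraliser. -/
theorem minimal_normal {N : Subgroup H} (hN : N.Normal) (hN0 : N ≠ ⊥)
    (hmin : ∀ K : Subgroup H, K.Normal → K ≤ N → K = ⊥ ∨ K = N) :
    ¬ Group.IsSolvable N ∧ centralizer (N : Set H) = ⊥ := by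
  have hns : ∀ M : Subgroup H, M.Normal → M ≠ ⊥ →
      (∀ K : Subgroup H, K.Normal → K ≤ M → K = ⊥ ∨ K = M) → ¬ Group.IsSolvable M := by
    intro M hM hM0 hMmin hs
    haveI := hM
    haveI := hs
    obtain ⟨hc, r, hr, hx⟩ := CfsgLib.Coprime.minimal_normal_solvable hM0 hMmin
    exact e.not_abelian h2 hM hM0 hc hr hx
  refine ⟨hns N hN hN0 hmin, ?_⟩
  haveI := hN
  by_contra hC
  haveI : (centralizer (N : Set H)).Normal := inferInstance
  obtain ⟨M, hM, hM0, hMC, hMmin⟩ := CfsgLib.Coprime.exists_minimal_normal_le hC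
  refine hns M hM hM0 hMmin (CfsgLib.FT.isSolvable_of_odd M (e.odd_of_semiregular h2 ?_))
  intro k hk v hv hf
  refine e.semiregular hM (fun v hv h x hx hxv => ?_) hk hv hf
  obtain ⟨n, hn, m, hm, rfl⟩ := e.exists_decomp hN hN0 hv h
  have hmx : m * x * m⁻¹ ∈ M := hM.conj_mem x hx m
  have hc := mem_centralizer_iff.1 (hMC hmx) n hn
  rw [show n * m * x * (n * m)⁻¹ = n * (m * x * m⁻¹) * n⁻¹ by group, hc]
  rw [show m * x * m⁻¹ * n * n⁻¹ = m * x * m⁻¹ by group]
  exact mul_mem (mul_mem hm (MulAction.mem_stabilizer_iff.2 hxv)) (inv_mem hm)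

end ExtPrim

end CfsgLib.PermAffine
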