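import Cfsg.Agent.Lib.PermAffine.ExtPrimBasic

/-!
# Minimal normal subgroups of a minimal normal subgroup

The factors of a minimal normal subgroup `N`, and the dichotomy for the stabiliser of a vector in `N`:
it projects onto every factor, or it is the product of its projections.
-/

set_option autoImplicit false
set_option linter.style.haveILetI false
set_option linter.unusedSectionVars false

open Subgroup

namespace CfsgLib.PermAffine

variable {H V : Type*} [Group H] [AddCommGroup V] [DistribMulAction H V]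

/-- A minimal normal subgroup of `N`. -/
structure IsFac (N S : Subgroup H) : Prop where
  le : S ≤ N
  norm : ∀ n ∈ N, ∀ s ∈ S, n * s * n⁻¹ ∈ S
  ne_bot : S ≠ ⊥
  min : ∀ K : Subgroup H, K ≤ S → (∀ n ∈ N, ∀ s ∈ K, n * s * n⁻¹ ∈ K) → K = ⊥ ∨ K = S

theorem conj_mem_map {S : Subgroup H} (h x : H) :
    x ∈ S.map (MulAut.conj h).toMonoidHom ↔ h⁻¹ * x * h ∈ S := by
  constructor
  · rintro ⟨y, hy, rfl⟩
    simpa [mul_assoc] using hy
  · intro hx
    exact ⟨_, hx, by simp [mul_assoc]⟩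

theorem exists_isFac [Finite H] {N : Subgroup H} (hN0 : N ≠ ⊥) : ∃ S, IsFac N S := by
  obtain ⟨S, hSN, hS⟩ := exists_minimal_le_of_wellFoundedLT (α := Subgroup H)
    (fun S => (∀ n ∈ N, ∀ s ∈ S, n * s * n⁻¹ ∈ S) ∧ S ≠ ⊥) N
    ⟨fun n hn s hs => mul_mem (mul_mem hn hs) (inv_mem hn), hN0⟩
  exact ⟨S, hSN, hS.prop.1, hS.prop.2,
    fun K hK hKn => or_iff_not_imp_left.2 fun h0 => le_antisymm hK (hS.le_of_le ⟨hKn, h0⟩ hK)⟩

namespace IsFac

variable {N S S' : Subgroup H}

theorem map_conj (hS : IsFac N S) (hN : N.Normal) (h : H) :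
    IsFac N (S.map (MulAut.conj h).toMonoidHom) := by
  refine ⟨?_, ?_, ?_, ?_⟩
  · rintro _ ⟨y, hy, rfl⟩
    exact hN.conj_mem y (hS.le hy) h
  · intro n hn s hs
    rw [conj_mem_map] at hs ⊢
    have := hS.norm _ (hN.conj_mem n hn h⁻¹) _ hs
    simpa [mul_assoc] using this
  · intro hb
    exact hS.ne_bot ((map_eq_bot_iff_of_injective S (MulAut.conj h).injective).1 hb)
  · intro K hK hKn
    rcases hS.min (K.map (MulAut.conj h⁻¹).toMonoidHom) (fun x hx => by
        rw [conj_mem_map, inv_inv] at hx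
        have := (conj_mem_map h _).1 (hK hx)
        simpa [mul_assoc] using this) (fun n hn s hs => by
        rw [conj_mem_map, inv_inv] at hs ⊢
        have := hKn _ (hN.conj_mem n hn h) _ hs
        simpa [mul_assoc] using this) with h0 | h0
    · exact Or.inl ((map_eq_bot_iff_of_injective K (MulAut.conj h⁻¹).injective).1 h0)
    · refine Or.inr (le_antisymm hK ?_)
      rintro _ ⟨y, hy, rfl⟩
      rw [SetLike.mem_coe, ← h0, conj_mem_map, inv_inv] at hy
      simpa using hy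

theorem commute (hS : IsFac N S) (hS' : IsFac N S') (hne : S ≠ S') {x y : H} (hx : x ∈ S)
    (hy : y ∈ S') : x * y = y * x := by
  have hinv : ∀ n ∈ N, ∀ s ∈ S ⊓ S', n * s * n⁻¹ ∈ S ⊓ S' := fun n hn s hs =>
    ⟨hS.norm n hn s hs.1, hS'.norm n hn s hs.2⟩
  have h0 : S ⊓ S' = ⊥ := by
    rcases hS.min _ inf_le_left hinv with h | h
    · exact h
    rcases hS'.min _ inf_le_right hinv with h' | h'
    · exact h'
    exact absurd (h.symm.trans h') hne
  have hmem : x * y * x⁻¹ * y⁻¹ ∈ S ⊓ S' := by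
    refine Subgroup.mem_inf.2 ⟨?_, mul_mem (hS'.norm x (hS.le hx) y hy) (inv_mem hy)⟩
    rw [show x * y * x⁻¹ * y⁻¹ = x * (y * x⁻¹ * y⁻¹) by group]
    exact mul_mem hx (hS.norm y (hS'.le hy) x⁻¹ (inv_mem hx))
  rw [h0, mem_bot] at hmem
  exact mul_inv_eq_iff_eq_mul.1 (mul_inv_eq_one.1 hmem)

theorem le_centralizer (hS : IsFac N S) (hS' : IsFac N S') (hne : S ≠ S') :
    S ≤ centralizer (S' : Set H) := fun _ hx =>
  mem_centralizer_iff.2 fun _ hy => (hS.commute hS' hne hx hy).symm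

theorem iSup_conj_eq (hS : IsFac N S) (hN : N.Normal)
    (hmin : ∀ K : Subgroup H, K.Normal → K ≤ N → K = ⊥ ∨ K = N) :
    (⨆ h : H, S.map (MulAut.conj h).toMonoidHom) = N := by
  set J := ⨆ h : H, S.map (MulAut.conj h).toMonoidHom with hJ
  have hJn : J.Normal := by
    refine ⟨fun x hx g => ?_⟩
    have hle : J.map (MulAut.conj g).toMonoidHom ≤ J := by
      rw [hJ, Subgroup.map_iSup]
      refine iSup_le fun h => le_iSup_of_le (g * h) ?_
      rintro _ ⟨y, hy, rfl⟩
      rw [SetLike.mem_coe, conj_mem_map] at hy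
      rw [conj_mem_map]
      simpa [mul_assoc] using hy
    exact hle ⟨x, hx, rfl⟩
  have hle : J ≤ N := iSup_le fun h => (hS.map_conj hN h).le
  refine (hmin J hJn hle).resolve_left fun h0 => hS.ne_bot (eq_bot_iff.2 ?_)
  refine le_trans ?_ h0.le
  exact le_iSup_of_le 1 fun x hx => ⟨x, hx, by simp⟩

theorem exists_conj_eq (hS : IsFac N S) (hS' : IsFac N S') (hN : N.Normal)
    (hmin : ∀ K : Subgroup H, K.Normal → K ≤ N → K = ⊥ ∨ K = N)
    (hcen : S' ⊓ centralizer (S' : Set H) = ⊥) :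
    ∃ h : H, S' = S.map (MulAut.conj h).toMonoidHom := by
  by_contra hall
  push Not at hall
  have hle : N ≤ centralizer (S' : Set H) := by
    rw [← hS.iSup_conj_eq hN hmin]
    exact iSup_le fun h => (hS.map_conj hN h).le_centralizer hS' (hall h).symm
  exact hS'.ne_bot (eq_bot_iff.2 fun x hx => hcen.le ⟨hx, hle (hS'.le hx)⟩)

theorem center_trivial (hS : IsFac N S) (hN : N.Normal) (hns : ¬ Group.IsSolvable N)
    (hmin : ∀ K : Subgroup H, K.Normal → K ≤ N → K = ⊥ ∨ K = N) :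
    S ⊓ centralizer (S : Set H) = ⊥ := by
  refine (hS.min _ inf_le_left fun n hn s hs => ⟨hS.norm n hn s hs.1, ?_⟩).resolve_right fun h => ?_
  · refine mem_centralizer_iff.2 fun t ht => ?_
    have h1 := mem_centralizer_iff.1 hs.2 (n⁻¹ * t * n) (by simpa using hS.norm n⁻¹ (inv_mem hn) t ht)
    calc t * (n * s * n⁻¹) = n * (n⁻¹ * t * n * s) * n⁻¹ := by group
      _ = n * (s * (n⁻¹ * t * n)) * n⁻¹ := by rw [h1]
      _ = n * s * n⁻¹ * t := by group
  · apply hns
    refine Group.isSolvable_of_comm fun a b => Subtype.ext ?_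
    have hab : ∀ g : H, ∀ g' : H, S.map (MulAut.conj g).toMonoidHom ≤
        centralizer ((S.map (MulAut.conj g').toMonoidHom : Subgroup H) : Set H) := by
      intro g g'
      by_cases he : S.map (MulAut.conj g).toMonoidHom = S.map (MulAut.conj g').toMonoidHom
      · rw [← he]
        rintro _ ⟨y, hy, rfl⟩
        refine mem_centralizer_iff.2 ?_
        rintro _ ⟨t, ht, rfl⟩
        rw [← map_mul, ← map_mul, mem_centralizer_iff.1 (h.ge hy).2 t ht]
      · exact (hS.map_conj hN g).le_centralizer (hS.map_conj hN g') he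
    have hJ := hS.iSup_conj_eq hN hmin
    have hc : N ≤ centralizer (N : Set H) := by
      conv_lhs => rw [← hJ]
      refine iSup_le fun g => ?_
      rw [Subgroup.le_centralizer_iff]
      conv_lhs => rw [← hJ]
      exact iSup_le fun g' => hab g' g
    exact (mem_centralizer_iff.1 (hc b.2) a a.2)

theorem simple (hS : IsFac N S) (hN : N.Normal) (hns : ¬ Group.IsSolvable N)
    (hmin : ∀ K : Subgroup H, K.Normal → K ≤ N → K = ⊥ ∨ K = N) :
    IsSimpleGroup S ∧ ¬ IsMulCommutative S := by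
  haveI : Nontrivial S := (nontrivial_iff_ne_bot S).2 hS.ne_bot
  constructor
  · refine ⟨fun K hK => ?_⟩
    set L := K.map S.subtype with hL
    have hLS : L ≤ S := map_subtype_le K
    have hnorm : S ≤ normalizer (L : Set H) := by
      rw [le_normalizer_iff]
      rintro s hs _ ⟨k, hk, rfl⟩
      exact ⟨⟨s, hs⟩ * k * ⟨s, hs⟩⁻¹, hK.conj_mem k hk _, rfl⟩
    have hN' : N ≤ normalizer (L : Set H) := by
      rw [← hS.iSup_conj_eq hN hmin]
      refine iSup_le fun h => ?_
      by_cases he : S.map (MulAut.conj h).toMonoidHom = S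
      · rw [he]; exact hnorm
      · exact ((hS.map_conj hN h).le_centralizer hS he).trans
          ((centralizer_le hLS).trans (centralizer_le_normalizer _))
    rcases hS.min L hLS (fun n hn s hs => (le_normalizer_iff.1 hN') n hn s hs) with h | h
    · exact Or.inl ((map_eq_bot_iff_of_injective K S.subtype_injective).1 h)
    · refine Or.inr (map_injective S.subtype_injective ?_)
      rw [← MonoidHom.range_eq_map, range_subtype]
      exact h
  · intro hc
    refine hS.ne_bot ?_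
    rw [← hS.center_trivial hN hns hmin, left_eq_inf]
    exact fun x hx => mem_centralizer_iff.2 fun y hy =>
      congrArg Subtype.val (hc.is_comm.comm (⟨y, hy⟩ : S) ⟨x, hx⟩)

theorem even_card (hS : IsFac N S) (hN : N.Normal) (hns : ¬ Group.IsSolvable N)
    (hmin : ∀ K : Subgroup H, K.Normal → K ≤ N → K = ⊥ ∨ K = N) [Finite H] :
    ¬ Group.IsSolvable S ∧ ∃ t ∈ S, t ≠ 1 ∧ t * t = 1 := by
  obtain ⟨hsi, hna⟩ := hS.simple hN hns hmin
  haveI := hsi
  have hsol : ¬ Group.IsSolvable S := fun h => by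
    haveI := h
    exact hna ⟨⟨fun a b => IsSimpleGroup.comm_iff_isSolvable.2 h a b⟩⟩
  refine ⟨hsol, ?_⟩
  have h2 : 2 ∣ Nat.card S := by
    by_contra h
    exact hsol (CfsgLib.FT.isSolvable_of_odd S (Nat.not_even_iff_odd.1 (mt even_iff_two_dvd.1 h)))
  haveI : Fact (Nat.Prime 2) := ⟨Nat.prime_two⟩
  obtain ⟨t, ht⟩ := exists_prime_orderOf_dvd_card' (G := S) 2 h2
  refine ⟨t, t.2, fun h => ?_, ?_⟩
  · rw [← Subgroup.orderOf_coe, h, orderOf_one] at ht
    omega
  · rw [← pow_two, ← ht, ← Subgroup.orderOf_coe, pow_orderOf_eq_one]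

end IsFac

variable [Finite H] [Finite V]

/-- `x` agrees modulo `C_N(S)` with an element fixing `v`. -/
def Reach (N S : Subgroup H) (v : V) (x : H) : Prop :=
  ∃ c ∈ N, c ∈ centralizer (S : Set H) ∧ (c * x) • v = v

theorem IsFac.conj_centralizer {N S : Subgroup H} (hS : IsFac N S) {g c : H} (hg : g ∈ N)
    (hc : c ∈ centralizer (S : Set H)) : g * c * g⁻¹ ∈ centralizer (S : Set H) := by
  refine mem_centralizer_iff.2 fun s hs => ?_
  have h1 := mem_centralizer_iff.1 hc (g⁻¹ * s * g) (by simpa using hS.norm g⁻¹ (inv_mem hg) s hs)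
  calc s * (g * c * g⁻¹) = g * (g⁻¹ * s * g * c) * g⁻¹ := by group
    _ = g * (c * (g⁻¹ * s * g)) * g⁻¹ := by rw [h1]
    _ = g * c * g⁻¹ * s := by group

/-- The stabiliser of `v` in `N` projects onto every factor, or is the product of its projections. -/
theorem ExtPrim.dichotomy (e : ExtPrim H V) {N : Subgroup H} (hN : N.Normal) {v : V}
    (hv : v ≠ 0) :
    (∀ S, IsFac N S → ∀ x ∈ N, Reach N S v x) ∨
      (∀ x ∈ N, (∀ S, IsFac N S → Reach N S v x) → x • v = v) := by
  let K : Subgroup H :=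
    { carrier := {x | x ∈ N ∧ ∀ S, IsFac N S → Reach N S v x}
      one_mem' := ⟨one_mem N, fun S _ => ⟨1, one_mem N, one_mem _, by simp⟩⟩
      mul_mem' := fun {x y} hx hy => ⟨mul_mem hx.1 hy.1, fun S hS => by
        obtain ⟨c, hc, hcs, hcv⟩ := hx.2 S hS
        obtain ⟨d, hd, hds, hdv⟩ := hy.2 S hS
        refine ⟨c * (x * d * x⁻¹), mul_mem hc (hN.conj_mem d hd x),
          mul_mem hcs (hS.conj_centralizer hx.1 hds), ?_⟩
        rw [show c * (x * d * x⁻¹) * (x * y) = (c * x) * (d * y) by group, mul_smul, hdv, hcv]⟩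
      inv_mem' := fun {x} hx => ⟨inv_mem hx.1, fun S hS => by
        obtain ⟨c, hc, hcs, hcv⟩ := hx.2 S hS
        refine ⟨x⁻¹ * c⁻¹ * x⁻¹⁻¹, hN.conj_mem _ (inv_mem hc) x⁻¹,
          hS.conj_centralizer (inv_mem hx.1) (inv_mem hcs), ?_⟩
        rw [show x⁻¹ * c⁻¹ * x⁻¹⁻¹ * x⁻¹ = (c * x)⁻¹ by group, inv_smul_eq_iff, hcv]⟩ }
  have hnorm : MulAction.stabilizer H v ≤ normalizer (K : Set H) := by
    rw [le_normalizer_iff]
    rintro h hh x ⟨hxN, hx⟩
    refine ⟨hN.conj_mem x hxN h, fun S hS => ?_⟩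
    obtain ⟨c, hc, hcs, hcv⟩ := hx _ (hS.map_conj hN h⁻¹)
    refine ⟨h * c * h⁻¹, hN.conj_mem c hc h, mem_centralizer_iff.2 fun s hs => ?_, ?_⟩
    · have h1 := mem_centralizer_iff.1 hcs (h⁻¹ * s * h)
        ((conj_mem_map h⁻¹ _).2 (by simpa [mul_assoc] using hs))
      calc s * (h * c * h⁻¹) = h * (h⁻¹ * s * h * c) * h⁻¹ := by group
        _ = h * (c * (h⁻¹ * s * h)) * h⁻¹ := by rw [h1]
        _ = h * c * h⁻¹ * s := by group
    · have hh' := MulAction.mem_stabilizer_iff.1 hh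
      rw [show h * c * h⁻¹ * (h * x * h⁻¹) = h * (c * x) * h⁻¹ by group, mul_smul, mul_smul,
        inv_smul_eq_iff.2 hh'.symm, hcv, hh']
  by_cases hle : K ≤ MulAction.stabilizer H v
  · exact Or.inr fun x hxN hx => MulAction.mem_stabilizer_iff.1 (hle ⟨hxN, hx⟩)
  refine Or.inl fun S hS x hxN => ?_
  have htop : K ⊔ MulAction.stabilizer H v = ⊤ :=
    (e.coatom v hv).2 _ (lt_of_le_of_ne le_sup_right fun h => hle (h ▸ le_sup_left))
  have hx : x ∈ ((K ⊔ MulAction.stabilizer H v : Subgroup H) : Set H) := htop ▸ mem_top x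
  rw [coe_mul_of_right_le_normalizer_left _ _ hnorm] at hx
  obtain ⟨k, hk, m, hm, rfl⟩ := hx
  have hmN : m ∈ N := by
    have := mul_mem (inv_mem hk.1) hxN
    simpa using this
  have hmK : m ∈ K := ⟨hmN, fun S _ => ⟨1, one_mem N, one_mem _, by
    rw [one_mul]; exact MulAction.mem_stabilizer_iff.1 hm⟩⟩
  exact (mul_mem hk hmK).2 S hS

end CfsgLib.PermAffine
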