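import Cfsg.Agent.Lib.PermAffine.ExtPrimFactor
import Cfsg.Agent.Lib.Fusion.PComplement

/-!
# The minimal normal subgroup has a single factor

If there were two factors, some vector would be fixed by a pair of involutions but by neither of them;
this excludes a third factor, and with two factors the normalisers of the nontrivial `2`-subgroups of
a factor would be `2`-groups up to centralisers, against Frobenius' normal complement theorem.
-/

set_option autoImplicit false
set_option linter.style.haveILetI false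
set_option linter.unusedSectionVars false

open Subgroup

namespace CfsgLib.PermAffine

variable {H V : Type*} [Group H] [AddCommGroup V] [DistribMulAction H V] [Finite H] [Finite V]

/-- In a finite simple module some scalar projects onto any subspace over the commutant. -/
theorem exists_smul_proj {R M : Type*} [Ring R] [AddCommGroup M] [Module R M] [Finite M]
    [IsSimpleModule R M] (L : Submodule (Module.End R M) M) :
    ∃ r : R, (∀ u : M, r • u ∈ L) ∧ ∀ u ∈ L, r • u = u := by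
  classical
  letI : Fintype M := Fintype.ofFinite M
  let L₀ : Submodule (Module.End R M) M := L
  obtain ⟨g, hg⟩ := LinearMap.exists_extend (p := L₀) (LinearMap.id : L₀ →ₗ[Module.End R M] L₀)
  obtain ⟨r, hr⟩ := jacobson_density (R := R) (L₀.subtype.comp g) Finset.univ
  refine ⟨r, fun u => ?_, fun u hu => ?_⟩
  · rw [← hr u (Finset.mem_univ _)]
    exact (g u).2
  · rw [← hr u (Finset.mem_univ _)]
    exact congrArg Subtype.val (LinearMap.congr_fun hg ⟨u, hu⟩)

namespace ExtPrim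

variable (e : ExtPrim H V) {N : Subgroup H} (hN : N.Normal) (hN0 : N ≠ ⊥)
  (hns : ¬ Group.IsSolvable N)
  (hmin : ∀ K : Subgroup H, K.Normal → K ≤ N → K = ⊥ ∨ K = N)

include e hN hN0 hmin in
/-- A factor fixes no nonzero vector. -/
theorem fac_not_fix {S : Subgroup H} (hS : IsFac N S) {v : V} (hv : v ≠ 0)
    (hf : ∀ s ∈ S, s • v = v) : False := by
  refine hN0 (e.eq_bot_of_le_stab hN hv ?_)
  rw [← hS.iSup_conj_eq hN hmin]
  refine iSup_le fun h => ?_
  intro x hx
  obtain ⟨k, hk, m, hm, hkm⟩ := e.exists_decomp hN hN0 hv h⁻¹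
  rw [conj_mem_map] at hx
  have h1 : m * x * m⁻¹ ∈ S := by
    have := hS.norm k⁻¹ (inv_mem hk) _ hx
    rwa [show h = m⁻¹ * k⁻¹ by rw [← mul_inv_rev, hkm, inv_inv],
      show k⁻¹ * ((m⁻¹ * k⁻¹)⁻¹ * x * (m⁻¹ * k⁻¹)) * k⁻¹⁻¹ = m * x * m⁻¹ by group] at this
  have h2 := hf _ h1
  rw [mul_smul, mul_smul, inv_smul_eq_iff.2 (MulAction.mem_stabilizer_iff.1 hm).symm] at h2
  rw [MulAction.mem_stabilizer_iff]
  have h3 := MulAction.mem_stabilizer_iff.1 hm
  exact MulAction.injective m (h2.trans h3.symm)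

include e hN hN0 hns hmin in
/-- A nonidentity element of a factor moves every invariant nonzero subgroup. -/
theorem fac_moves {S : Subgroup H} (hS : IsFac N S) {W : AddSubgroup V} (hW : W ≠ ⊥)
    (hWS : ∀ s ∈ S, ∀ w ∈ W, s • w ∈ W) {t : H} (ht : t ∈ S) (ht1 : t ≠ 1) :
    ∃ w ∈ W, t • w ≠ w := by
  by_contra hall
  push Not at hall
  let K : Subgroup S :=
    { carrier := {s | ∀ w ∈ W, (s : H) • w = w}
      one_mem' := fun w _ => one_smul H w
      mul_mem' := fun {a b} ha hb w hw => by rw [Subgroup.coe_mul, mul_smul, hb w hw, ha w hw]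
      inv_mem' := fun {a} ha w hw => by rw [Subgroup.coe_inv, inv_smul_eq_iff, ha w hw] }
  have hK : K.Normal := ⟨fun a ha g w hw => by
    rw [Subgroup.coe_mul, Subgroup.coe_mul, Subgroup.coe_inv, mul_smul, mul_smul,
      ha _ (hWS _ (inv_mem g.2) w hw), smul_inv_smul]⟩
  haveI := (hS.simple hN hns hmin).1
  rcases hK.eq_bot_or_eq_top with h | h
  · refine ht1 ?_
    have : (⟨t, ht⟩ : S) ∈ K := hall
    rw [h, mem_bot] at this
    exact congrArg Subtype.val this
  · obtain ⟨w, hw, hw0⟩ := (AddSubgroup.bot_or_exists_ne_zero W).resolve_left hW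
    refine e.fac_not_fix hN hN0 hmin hS hw0 fun s hs => ?_
    have : (⟨s, hs⟩ : S) ∈ K := h ▸ mem_top _
    exact this w hw

include e hN hN0 hns hmin in
/-- A vector of an invariant subgroup fixed by a product of two involutions and not by the first. -/
theorem exists_linked (h2 : ∀ v : V, v + v = 0) {S₁ S₂ : Subgroup H} (h₁ : IsFac N S₁)
    (h₂ : IsFac N S₂) (hne : S₁ ≠ S₂) {W : AddSubgroup V} (hW : W ≠ ⊥)
    (hW₁ : ∀ s ∈ S₁, ∀ w ∈ W, s • w ∈ W) (hW₂ : ∀ s ∈ S₂, ∀ w ∈ W, s • w ∈ W) :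
    ∃ t₁ ∈ S₁, ∃ t₂ ∈ S₂, ∃ v ∈ W, (t₁ * t₂) • v = v ∧ t₁ • v ≠ v := by
  obtain ⟨-, t₁, ht₁, ht₁1, ht₁2⟩ := h₁.even_card hN hns hmin
  obtain ⟨-, t₂, ht₂, ht₂1, ht₂2⟩ := h₂.even_card hN hns hmin
  let φ : W →+ V :=
    { toFun := fun w => t₁ • (w : V) + w
      map_zero' := by simp
      map_add' := fun a b => by simp only [AddSubgroup.coe_add, smul_add]; abel }
  have hW' : φ.range ≠ ⊥ := by
    intro h0
    obtain ⟨w, hw, hmv⟩ := e.fac_moves hN hN0 hns hmin h₁ hW hW₁ ht₁ ht₁1
    have : φ ⟨w, hw⟩ ∈ φ.range := ⟨_, rfl⟩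
    rw [h0, AddSubgroup.mem_bot] at this
    exact hmv (by rw [add_eq_zero_iff_eq_neg.1 (show t₁ • w + w = 0 from this), e.neg_eq h2])
  have hW'S : ∀ s ∈ S₂, ∀ w ∈ φ.range, s • w ∈ φ.range := by
    rintro s hs _ ⟨w, rfl⟩
    refine ⟨⟨s • (w : V), hW₂ s hs _ w.2⟩, ?_⟩
    show t₁ • s • (w : V) + s • (w : V) = s • (t₁ • (w : V) + w)
    rw [smul_add, ← mul_smul, h₁.commute h₂ hne ht₁ hs, mul_smul]
  obtain ⟨_, ⟨w, rfl⟩, hmv⟩ := e.fac_moves hN hN0 hns hmin h₂ hW' hW'S ht₂ ht₂1
  have hc := h₁.commute h₂ hne ht₁ ht₂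
  refine ⟨t₁, ht₁, t₂, ht₂, (t₁ * t₂) • (w : V) + w, add_mem ?_ w.2, ?_, fun hfix => hmv ?_⟩
  · rw [mul_smul]
    exact hW₁ _ ht₁ _ (hW₂ _ ht₂ _ w.2)
  · have hsq : (t₁ * t₂) * (t₁ * t₂) = 1 := by
      rw [mul_assoc, ← mul_assoc t₂, ← hc, mul_assoc t₁ t₂ t₂, ht₂2, mul_one, ht₁2]
    rw [smul_add, ← mul_smul, hsq, one_smul, add_comm]
  · show t₂ • (t₁ • (w : V) + w) = t₁ • (w : V) + w
    rw [smul_add, mul_smul, ← mul_smul, ht₁2, one_smul] at hfix
    rw [smul_add, ← mul_smul, ← hc, mul_smul]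
    calc t₁ • t₂ • (w : V) + t₂ • (w : V)
        = (t₂ • (w : V) + t₁ • (w : V)) + (t₁ • t₂ • (w : V) + t₁ • (w : V)) := by
          rw [add_add_add_comm, add_comm (t₂ • (w : V)), h2 (t₁ • (w : V)), add_zero]
      _ = (t₁ • t₂ • (w : V) + w) + (t₁ • t₂ • (w : V) + t₁ • (w : V)) := by rw [hfix]
      _ = (w : V) + t₁ • (w : V) := by
          rw [add_add_add_comm, h2, zero_add]
      _ = t₁ • (w : V) + w := add_comm _ _

include e hN hN0 hns hmin in
/-- If the stabiliser projects onto a factor it meets it trivially. -/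
theorem inf_stab_trivial {S : Subgroup H} (hS : IsFac N S) {v : V} (hv : v ≠ 0)
    (hsub : ∀ x ∈ N, Reach N S v x) {s : H} (hs : s ∈ S) (hsv : s • v = v) : s = 1 := by
  rcases hS.min (S ⊓ MulAction.stabilizer H v) inf_le_left (fun n hn x hx => by
    obtain ⟨hxS, hxv⟩ := Subgroup.mem_inf.1 hx
    refine Subgroup.mem_inf.2 ⟨hS.norm n hn x hxS, ?_⟩
    obtain ⟨c, hc, hcs, hcv⟩ := hsub n hn
    have hmem : n * x * n⁻¹ ∈ S := hS.norm n hn x hxS
    have h1 : (c * n) * x * (c * n)⁻¹ = n * x * n⁻¹ := by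
      calc (c * n) * x * (c * n)⁻¹ = c * (n * x * n⁻¹) * c⁻¹ := by group
        _ = n * x * n⁻¹ := by rw [← mem_centralizer_iff.1 hcs _ hmem, mul_inv_cancel_right]
    rw [← h1]
    exact mul_mem (mul_mem (MulAction.mem_stabilizer_iff.2 hcv) hxv)
      (inv_mem (MulAction.mem_stabilizer_iff.2 hcv))) with h | h
  · have : s ∈ S ⊓ MulAction.stabilizer H v :=
      Subgroup.mem_inf.2 ⟨hs, MulAction.mem_stabilizer_iff.2 hsv⟩
    rwa [h, mem_bot] at this
  · exact (e.fac_not_fix hN hN0 hmin hS hv fun x hx =>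
      MulAction.mem_stabilizer_iff.1 (h.ge hx).2).elim

include e hN in
/-- A linked vector: the stabiliser projects onto every factor. -/
theorem subdirect_of_linked {S₁ S₂ : Subgroup H} (h₁ : IsFac N S₁) (h₂ : IsFac N S₂) (hne : S₁ ≠ S₂)
    {t₁ t₂ : H} (ht₁ : t₁ ∈ S₁) (ht₂ : t₂ ∈ S₂) {v : V} (hv : v ≠ 0) (hf : (t₁ * t₂) • v = v)
    (hm : t₁ • v ≠ v) : ∀ S, IsFac N S → ∀ x ∈ N, Reach N S v x := by
  refine (e.dichotomy hN hv).resolve_right fun hall => hm (hall t₁ (h₁.le ht₁) fun S hS => ?_)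
  by_cases hSS : S = S₁
  · subst hSS
    exact ⟨t₂, h₂.le ht₂, h₂.le_centralizer h₁ hne.symm ht₂, by rwa [← h₁.commute h₂ hne ht₁ ht₂]⟩
  · exact ⟨t₁⁻¹, inv_mem (h₁.le ht₁), inv_mem (h₁.le_centralizer hS (Ne.symm hSS) ht₁), by simp⟩

include e hN hN0 hns hmin in
theorem fac_two (h2 : ∀ v : V, v + v = 0) {S₁ S₂ S : Subgroup H} (h₁ : IsFac N S₁)
    (h₂ : IsFac N S₂) (hne : S₁ ≠ S₂) (hS : IsFac N S) : S = S₁ ∨ S = S₂ := by
  by_contra hne3
  push Not at hne3
  obtain ⟨-, t, ht, ht1, ht2⟩ := hS.even_card hN hns hmin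
  obtain ⟨u, hu, hu'⟩ := e.exists_fix h2 ht2
  have hW : fixV (V := V) (zpowers t) ≠ ⊥ := by
    intro h0
    have : u ∈ fixV (V := V) (zpowers t) := fun k hk => by
      have : zpowers t ≤ MulAction.stabilizer H u :=
        zpowers_le.2 (MulAction.mem_stabilizer_iff.2 hu')
      exact MulAction.mem_stabilizer_iff.1 (this hk)
    rw [h0, AddSubgroup.mem_bot] at this
    exact hu this
  have hinv : ∀ T : Subgroup H, IsFac N T → T ≠ S → ∀ s ∈ T, ∀ w ∈ fixV (V := V) (zpowers t),
      s • w ∈ fixV (V := V) (zpowers t) := by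
    intro T hT hTS s hs w hw
    refine smul_mem_fixV ?_ hw
    refine centralizer_le_normalizer _ (mem_centralizer_iff.2 fun k hk => ?_)
    exact (hT.commute hS hTS hs (zpowers_le.2 ht hk)).symm
  obtain ⟨t₁, ht₁, t₂, ht₂, v, hvW, hf, hm⟩ := e.exists_linked hN hN0 hns hmin h2 h₁ h₂ hne hW
    (hinv S₁ h₁ hne3.1.symm) (hinv S₂ h₂ hne3.2.symm)
  have hv : v ≠ 0 := fun h => hm (by rw [h, smul_zero])
  exact ht1 (e.inf_stab_trivial hN hN0 hns hmin hS hv
    (e.subdirect_of_linked hN h₁ h₂ hne ht₁ ht₂ hv hf hm S hS) ht (hvW t (mem_zpowers t)))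

include e hN hN0 hns hmin in
theorem two_factors_false (h2 : ∀ v : V, v + v = 0) {S₁ S₂ : Subgroup H} (h₁ : IsFac N S₁)
    (h₂ : IsFac N S₂) (hne : S₁ ≠ S₂) : False := by
  classical
  haveI := e.nontrivial
  have hfac : ∀ S, IsFac N S → S = S₁ ∨ S = S₂ := fun S hS =>
    e.fac_two hN hN0 hns hmin h2 h₁ h₂ hne hS
  have hN12 : N ≤ S₁ ⊔ S₂ := by
    conv_lhs => rw [← h₁.iSup_conj_eq hN hmin]
    refine iSup_le fun h => ?_
    rcases hfac _ (h₁.map_conj hN h) with he | he <;> rw [he]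
    · exact le_sup_left
    · exact le_sup_right
  have hprod : ∀ n ∈ N, ∃ a ∈ S₁, ∃ b ∈ S₂, a * b = n := fun n hn => by
    have hn' : n ∈ ((S₁ ⊔ S₂ : Subgroup H) : Set H) := hN12 hn
    rw [coe_mul_of_right_le_normalizer_left _ _
      ((h₂.le_centralizer h₁ hne.symm).trans (centralizer_le_normalizer _))] at hn'
    exact hn'
  have hcen : ∀ (S S' : Subgroup H), IsFac N S → IsFac N S' → S ≠ S' →
      (∀ n ∈ N, ∃ a ∈ S, ∃ b ∈ S', a * b = n) →
      ∀ c ∈ N, c ∈ centralizer (S : Set H) → c ∈ S' := by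
    intro S S' hS hS' hSS hp c hc hcs
    obtain ⟨a, ha, b, hb, rfl⟩ := hp c hc
    have hbC : b ∈ centralizer (S : Set H) := hS'.le_centralizer hS hSS.symm hb
    have haC : a ∈ S ⊓ centralizer (S : Set H) :=
      Subgroup.mem_inf.2 ⟨ha, by simpa using mul_mem hcs (inv_mem hbC)⟩
    rw [hS.center_trivial hN hns hmin, mem_bot] at haC
    rw [haC, one_mul]; exact hb
  have hcen₁ := hcen S₁ S₂ h₁ h₂ hne hprod
  have hcen₂ := hcen S₂ S₁ h₂ h₁ hne.symm fun n hn => by
    obtain ⟨a, ha, b, hb, rfl⟩ := hprod n hn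
    exact ⟨b, hb, a, ha, (h₁.commute h₂ hne ha hb).symm⟩
  obtain ⟨t₁, ht₁, t₂, ht₂, v, -, hf, hm⟩ := e.exists_linked hN hN0 hns hmin h2 h₁ h₂ hne
    (W := ⊤) top_ne_bot (fun _ _ _ _ => trivial) (fun _ _ _ _ => trivial)
  have hv : v ≠ 0 := fun h => hm (by rw [h, smul_zero])
  have hsub := e.subdirect_of_linked hN h₁ h₂ hne ht₁ ht₂ hv hf hm
  have hpart₁ : ∀ x ∈ S₁, ∃ y ∈ S₂, (y * x) • v = v := fun x hx => by
    obtain ⟨c, hc, hcs, hcv⟩ := hsub S₁ h₁ x (h₁.le hx)
    exact ⟨c, hcen₁ c hc hcs, hcv⟩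
  have hpart₂ : ∀ y ∈ S₂, ∃ x ∈ S₁, (x * y) • v = v := fun y hy => by
    obtain ⟨c, hc, hcs, hcv⟩ := hsub S₂ h₂ y (h₂.le hy)
    exact ⟨c, hcen₂ c hc hcs, hcv⟩
  -- the ring generated by the first factor
  let R : Subring (AddMonoid.End V) :=
    Subring.closure (DistribMulAction.toAddMonoidEnd H V '' (S₁ : Set H))
  let ι : ∀ x ∈ S₁, R := fun x hx =>
    ⟨DistribMulAction.toAddMonoidEnd H V x, Subring.subset_closure ⟨x, hx, rfl⟩⟩
  have hι : ∀ (x : H) (hx : x ∈ S₁) (u : V), ι x hx • u = x • u := fun _ _ _ => rfl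
  have hcomm : ∀ r : R, ∀ y ∈ S₂, ∀ u : V, r • (y • u) = y • (r • u) := by
    intro r y hy
    obtain ⟨r, hr⟩ := r
    show ∀ u : V, r (y • u) = y • r u
    induction hr using Subring.closure_induction with
    | mem z hz =>
      obtain ⟨x, hx, rfl⟩ := hz
      intro u
      show x • y • u = y • x • u
      rw [← mul_smul, h₁.commute h₂ hne hx hy, mul_smul]
    | zero => intro u; exact (smul_zero y).symm
    | one => intro u; rfl
    | add a b _ _ ha hb =>
      intro u
      show a (y • u) + b (y • u) = y • (a u + b u)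
      rw [ha, hb, smul_add]
    | neg a _ ha =>
      intro u
      show -a (y • u) = y • (-a u)
      rw [ha, smul_neg]
    | mul a b _ _ ha hb =>
      intro u
      show a (b (y • u)) = y • a (b u)
      rw [hb, ha]
  have hext : ∀ s : R, ∀ r r' : R, r • v = r' • v → r • (s • v) = r' • (s • v) := by
    intro s
    obtain ⟨s, hs⟩ := s
    show ∀ r r' : R, r • v = r' • v → r • (s v) = r' • (s v)
    induction hs using Subring.closure_induction with
    | mem z hz =>
      obtain ⟨x, hx, rfl⟩ := hz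
      intro r r' h
      show r • (x • v) = r' • (x • v)
      obtain ⟨y, hy, hyv⟩ := hpart₁ x hx
      rw [mul_smul] at hyv
      rw [show x • v = y⁻¹ • v from eq_inv_smul_iff.2 hyv, hcomm r _ (inv_mem hy),
        hcomm r' _ (inv_mem hy), h]
    | zero => intro r r' _; show r • (0 : V) = r' • (0 : V); rw [smul_zero, smul_zero]
    | one => intro r r' h; exact h
    | add a b _ _ ha hb =>
      intro r r' h
      show r • (a v + b v) = r' • (a v + b v)
      rw [smul_add, smul_add, ha r r' h, hb r r' h]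
    | neg a _ ha =>
      intro r r' h
      show r • (-a v) = r' • (-a v)
      rw [smul_neg, smul_neg, ha r r' h]
    | mul a b hamem _ ha hb =>
      intro r r' h
      show r • (a (b v)) = r' • (a (b v))
      have := hb (r * ⟨a, hamem⟩) (r' * ⟨a, hamem⟩) (by rw [mul_smul, mul_smul]; exact ha r r' h)
      rw [mul_smul, mul_smul] at this
      exact this
  obtain ⟨U, hUatom, hUM⟩ := (eq_bot_or_exists_atom_le (Submodule.span R ({v} : Set V))).resolve_left
    fun h => hv (by
      have : v ∈ Submodule.span R ({v} : Set V) := Submodule.mem_span_singleton_self v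
      rw [h] at this
      exact (Submodule.mem_bot R).1 this)
  have hUv : ∀ u ∈ U, ∃ s : R, s • v = u := fun u hu => Submodule.mem_span_singleton.1 (hUM hu)
  have hUS : ∀ x ∈ S₁, ∀ u ∈ U, x • u ∈ U := fun x hx u hu => hι x hx u ▸ U.smul_mem _ hu
  have hkey : ∀ (a : R) (c : H), c ∈ S₁ → (∀ u : V, c • (a • u) = a • (c • u)) →
      (∃ u ∈ U, a • u ≠ 0) → (∃ u ∈ U, u ≠ 0 ∧ a • u = 0) → c • (a • v) = a • v := by
    intro a c hc hac ⟨u₁, hu₁, hu₁'⟩ ⟨u₀, hu₀, hu₀0, hu₀'⟩
    by_contra hcw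
    have hw : a • v ≠ 0 := fun h => hcw (by rw [h, smul_zero])
    rcases e.dichotomy hN hw with hall | hall
    · have hx : ∀ x ∈ S₁, ∀ u ∈ U, ∃ u' ∈ U, x • (a • u) = a • u' := by
        intro x hx u hu
        obtain ⟨y, hyN, hyC, hyw⟩ := hall S₁ h₁ x (h₁.le hx)
        have hy := hcen₁ y hyN hyC
        obtain ⟨x', hx', hxyv⟩ := hpart₂ y hy
        refine ⟨x' • u, hUS x' hx' u hu, ?_⟩
        have hyv : y • v = x'⁻¹ • v := eq_inv_smul_iff.2 (by rw [← mul_smul]; exact hxyv)
        have h0 : (ι x hx * a * ι x'⁻¹ (inv_mem hx')) • v = a • v := by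
          rw [mul_smul, mul_smul, hι x hx, hι x'⁻¹ (inv_mem hx'), ← hyv, hcomm a y hy, ← mul_smul,
            h₁.commute h₂ hne hx hy]
          exact hyw
        obtain ⟨s, hs⟩ := hUv (x' • u) (hUS x' hx' u hu)
        have h3 := hext s _ _ h0
        rw [hs, mul_smul, mul_smul, hι x hx, hι x'⁻¹ (inv_mem hx'), inv_smul_smul] at h3
        exact h3
      let P : AddSubgroup V := (U.toAddSubgroup).map (DistribSMul.toAddMonoidHom V a)
      have hP : ∀ r : R, ∀ p ∈ P, r • p ∈ P := by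
        intro r
        obtain ⟨r, hr⟩ := r
        show ∀ p ∈ P, r p ∈ P
        induction hr using Subring.closure_induction with
        | mem z hz =>
          obtain ⟨x, hx', rfl⟩ := hz
          rintro _ ⟨u, hu, rfl⟩
          obtain ⟨u', hu', he⟩ := hx x hx' u hu
          exact ⟨u', hu', he.symm⟩
        | zero => intro p _; exact P.zero_mem
        | one => intro p hp; exact hp
        | add a b _ _ ha hb => intro p hp; exact P.add_mem (ha p hp) (hb p hp)
        | neg a _ ha => intro p hp; exact P.neg_mem (ha p hp)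
        | mul a b _ _ ha hb => intro p hp; exact ha _ (hb p hp)
      let PM : Submodule R V := { P with smul_mem' := hP }
      have hPU : PM ≤ U := by
        rintro _ ⟨u, hu, rfl⟩
        exact U.smul_mem a hu
      rcases hUatom.le_iff.1 hPU with h | h
      · refine hu₁' ((Submodule.mem_bot R).1 ?_)
        rw [← h]
        exact ⟨u₁, hu₁, rfl⟩
      · have hsur : Function.Surjective fun u : U => (⟨a • (u : V), U.smul_mem a u.2⟩ : U) := by
          intro w
          obtain ⟨u, hu, he⟩ := h.ge w.2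
          exact ⟨⟨u, hu⟩, Subtype.ext he⟩
        have := Finite.injective_iff_surjective.2 hsur (a₁ := ⟨u₀, hu₀⟩) (a₂ := 0) (Subtype.ext (by
          simp [hu₀']))
        exact hu₀0 (congrArg Subtype.val this)
    · refine hcw (hall c (h₁.le hc) fun S hS => ?_)
      rcases hfac S hS with rfl | rfl
      · obtain ⟨y, hy, hyv⟩ := hpart₁ c hc
        refine ⟨y, h₂.le hy, h₂.le_centralizer h₁ hne.symm hy, ?_⟩
        rw [mul_smul, hac, ← hcomm a y hy, ← mul_smul y c v, hyv]
      · exact ⟨c⁻¹, inv_mem (h₁.le hc), inv_mem (h₁.le_centralizer h₂ hne hc), by simp⟩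
  -- normalisers of nontrivial two-subgroups
  haveI : IsSimpleModule R U := isSimpleModule_iff_isAtom.2 hUatom
  have hUbot : U.toAddSubgroup ≠ ⊥ := fun h => hUatom.1 (Submodule.toAddSubgroup_injective (by
    rw [h, Submodule.bot_toAddSubgroup]))
  haveI : Fact (Nat.Prime 2) := ⟨Nat.prime_two⟩
  haveI := (h₁.simple hN hns hmin).1
  obtain ⟨P⟩ : Nonempty (Sylow 2 S₁) := inferInstance
  have hlocal : CfsgLib.Fusion.LocallyPNilpotentAction 2 (P : Subgroup S₁) := by
    intro Q hQP g hg hgc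
    by_cases hQ : Q = ⊥
    · subst hQ
      exact mem_centralizer_iff.2 fun h hh => by rw [mem_bot.1 hh, one_mul, mul_one]
    suffices hg1 : g = 1 by rw [hg1]; exact one_mem _
    obtain ⟨q, hq, hq1⟩ := (bot_or_exists_ne_one Q).resolve_left hQ
    let L : Submodule (Module.End R U) U :=
      { carrier := {u | ∀ s : S₁, s ∈ Q → ι s s.2 • u = u}
        zero_mem' := fun s _ => smul_zero _
        add_mem' := fun {a b} ha hb s hs => by rw [smul_add, ha s hs, hb s hs]
        smul_mem' := fun f u hu s hs => by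
          show ι s s.2 • f u = f u
          rw [← map_smul, hu s hs] }
    have hLmem : ∀ u : U, u ∈ L ↔ ∀ s : S₁, s ∈ Q → (s : H) • (u : V) = u := fun u =>
      ⟨fun h s hs => congrArg Subtype.val (h s hs), fun h s hs => Subtype.ext (h s hs)⟩
    obtain ⟨w₀, hw₀, hw₀'⟩ := e.fac_moves hN hN0 hns hmin h₁ hUbot hUS q.2
      (fun h => hq1 (Subtype.ext h))
    set uo : U := ⟨w₀, hw₀⟩ with huo
    have huoL : uo ∉ L := fun h => hw₀' ((hLmem uo).1 h q hq)
    have hL : ∃ l : U, l ≠ 0 ∧ l ∈ L := by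
      letI : MulAction Q U :=
        { smul := fun s u => ι (s : S₁) (s : S₁).2 • u
          one_smul := fun u => Subtype.ext (one_smul H (u : V))
          mul_smul := fun s t u => Subtype.ext (mul_smul ((s : S₁) : H) ((t : S₁) : H) (u : V)) }
      have hQp : IsPGroup 2 Q := P.isPGroup'.to_le hQP
      have hdvd : 2 ∣ Nat.card U := by
        have ho : addOrderOf uo ∣ 2 := addOrderOf_dvd_of_nsmul_eq_zero (Subtype.ext (by
          simp [two_nsmul, h2]))
        rcases (Nat.dvd_prime Nat.prime_two).1 ho with h | h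
        · rw [AddMonoid.addOrderOf_eq_one_iff] at h
          exact absurd (show w₀ = 0 from congrArg Subtype.val h) (fun h0 => hw₀' (by
            rw [h0, smul_zero]))
        · exact h ▸ addOrderOf_dvd_natCard uo
      obtain ⟨l, hl, hne0⟩ := hQp.exists_fixed_point_of_prime_dvd_card_of_fixed_point U hdvd
        (a := 0) (fun s => smul_zero (ι (s : S₁) (s : S₁).2))
      exact ⟨l, hne0.symm, fun s hs => hl ⟨s, hs⟩⟩
    obtain ⟨l, hl0, hlL⟩ := hL
    obtain ⟨r, hrL, hrid⟩ := exists_smul_proj L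
    set m := orderOf g with hm'
    have hmodd : Odd m := Nat.coprime_two_right.1 hgc
    let cj : ℕ → R := fun i =>
      ι ((g ^ i : S₁) : H) (g ^ i).2 * r * ι (((g ^ i)⁻¹ : S₁) : H) ((g ^ i)⁻¹).2
    let a : R := ∑ i ∈ Finset.range m, cj i
    have hLinv : ∀ i : ℕ, ∀ u : U, u ∈ L →
        ι (((g ^ i) : S₁) : H) (g ^ i).2 • u ∈ L ∧ ι (((g ^ i)⁻¹ : S₁) : H) ((g ^ i)⁻¹).2 • u ∈ L := by
      intro i u hu
      have hgi : g ^ i ∈ normalizer (Q : Set S₁) := pow_mem hg i
      have hgen : ∀ k : S₁, k ∈ normalizer (Q : Set S₁) → ι (k : H) k.2 • u ∈ L := by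
        intro k hk
        refine (hLmem _).2 fun s hs => ?_
        show (s : H) • (k : H) • (u : V) = (k : H) • (u : V)
        have h1 := (hLmem u).1 hu (k⁻¹ * s * k) ((mem_normalizer_iff''.1 hk s).1 hs)
        rw [Subgroup.coe_mul, Subgroup.coe_mul, Subgroup.coe_inv, mul_smul, mul_smul,
          inv_smul_eq_iff] at h1
        exact h1
      exact ⟨hgen _ hgi, hgen _ (inv_mem hgi)⟩
    have haL : ∀ u : U, a • u ∈ L := fun u => by
      rw [Finset.sum_smul]
      refine L.sum_mem fun i _ => ?_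
      rw [mul_smul, mul_smul]
      exact (hLinv i _ (hrL _)).1
    have haid : ∀ u : U, u ∈ L → a • u = u := by
      intro u hu
      rw [Finset.sum_smul, Finset.sum_congr rfl (g := fun _ => u) fun i _ => ?_, Finset.sum_const,
        Finset.card_range]
      · obtain ⟨j, hj⟩ := hmodd
        rw [hj, add_nsmul, mul_nsmul, one_nsmul]
        have : 2 • u = 0 := Subtype.ext (by simp [two_nsmul, h2])
        rw [this, smul_zero, zero_add]
      · rw [mul_smul, mul_smul, hrid _ (hLinv i u hu).2]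
        exact Subtype.ext (by
          show ((g ^ i : S₁) : H) • (((g ^ i)⁻¹ : S₁) : H) • (u : V) = u
          rw [Subgroup.coe_inv, smul_inv_smul])
    have hac : ∀ u : V, (g : H) • (a • u) = a • ((g : H) • u) := by
      intro u
      rw [Finset.sum_smul, Finset.sum_smul, Finset.smul_sum]
      have hstep : ∀ i : ℕ, (g : H) • (cj i • u) = cj (i + 1) • ((g : H) • u) := by
        intro i
        simp only [cj, mul_smul, hι]
        rw [← mul_smul (g : H), ← mul_smul (((g ^ (i + 1))⁻¹ : S₁) : H), pow_succ']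
        congr 2
        all_goals (push_cast; group)
      rw [Finset.sum_congr rfl fun i _ => hstep i]
      obtain ⟨j, hj⟩ : ∃ j, m = j + 1 := ⟨m - 1, by have := orderOf_pos g; omega⟩
      rw [hj, Finset.sum_range_succ, Finset.sum_range_succ' (fun i => cj i • ((g : H) • u))]
      congr 1
      have : g ^ (j + 1) = 1 := by rw [← hj, hm', pow_orderOf_eq_one]
      simp only [cj, this, pow_zero]
    have hal : a • (l : V) = l := congrArg Subtype.val (haid l hlL)
    have h1 := hkey a g g.2 hac ⟨l, l.2, by rw [hal]; exact fun h => hl0 (Subtype.ext h)⟩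
      ⟨(uo : V) - a • (uo : V), sub_mem uo.2 (U.smul_mem a uo.2), fun h => huoL (by
          have : uo = a • uo := Subtype.ext (sub_eq_zero.1 h)
          rw [this]; exact haL uo), by
        rw [smul_sub, show a • a • (uo : V) = a • (uo : V) from
          congrArg Subtype.val (haid _ (haL uo)), sub_self]⟩
    have h3 := hkey (1 - a) g g.2 (fun u => by
        rw [sub_smul, sub_smul, one_smul, one_smul, smul_sub, hac])
      ⟨uo, uo.2, by
        rw [sub_smul, one_smul]
        exact fun h => huoL (by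
          have : uo = a • uo := Subtype.ext (sub_eq_zero.1 h)
          rw [this]; exact haL uo)⟩
      ⟨l, l.2, fun h => hl0 (Subtype.ext h), by rw [sub_smul, one_smul, hal, sub_self]⟩
    rw [sub_smul, one_smul, smul_sub, h1] at h3
    have hgv : (g : H) • v = v := sub_left_inj.1 h3
    exact Subtype.ext (e.inf_stab_trivial hN hN0 hns hmin h₁ hv (hsub S₁ h₁) g.2 hgv)
  obtain ⟨Q, K, hK, hKQ⟩ := CfsgLib.Fusion.hasNormalPComplement_of_locallyPNilpotentAction P hlocal
  obtain ⟨hsol, t, ht, ht1, ht2⟩ := h₁.even_card hN hns hmin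
  rcases hK.eq_bot_or_eq_top with h | h
  · subst h
    rw [isComplement'_bot_left] at hKQ
    apply hsol
    have hp : IsPGroup 2 S₁ := (Q.isPGroup'.to_le (show (⊤ : Subgroup S₁) ≤ Q from hKQ.ge)).of_equiv
      Subgroup.topEquiv
    haveI := hp.isNilpotent
    infer_instance
  · subst h
    rw [isComplement'_top_left] at hKQ
    have hord : orderOf (⟨t, ht⟩ : S₁) = 2 := orderOf_eq_prime (Subtype.ext (by
      rw [Subgroup.coe_pow, pow_two]; exact ht2)) (fun h => ht1 (congrArg Subtype.val h))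
    have hzp : IsPGroup 2 (zpowers (⟨t, ht⟩ : S₁)) :=
      IsPGroup.of_card (n := 1) (by rw [Nat.card_zpowers, hord, pow_one])
    obtain ⟨Q', hQ'⟩ := hzp.exists_le_sylow
    have hc := Q'.card_eq_multiplicity
    rw [← Q.card_eq_multiplicity, hKQ, Subgroup.card_bot] at hc
    rw [Subgroup.card_eq_one] at hc
    rw [hc, le_bot_iff, zpowers_eq_bot] at hQ'
    exact ht1 (congrArg Subtype.val hQ')

include e in
theorem almostSimple (h2 : ∀ v : V, v + v = 0) :
    ∃ T : Subgroup H, T.Normal ∧ IsSimpleGroup T ∧ ¬ IsMulCommutative T ∧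
      centralizer (T : Set H) = ⊥ := by
  have htop : (⊤ : Subgroup H) ≠ ⊥ := fun h => e.insol (Group.isSolvable_of_comm fun a b => by
    have ha := mem_top a; have hb := mem_top b
    rw [h, mem_bot] at ha hb
    rw [ha, hb])
  obtain ⟨N, hN, hN0, -, hmin⟩ := CfsgLib.Coprime.exists_minimal_normal_le htop
  obtain ⟨hns, hcen⟩ := e.minimal_normal h2 hN hN0 hmin
  obtain ⟨S, hS⟩ := exists_isFac hN0
  obtain ⟨hsi, hna⟩ := hS.simple hN hns hmin
  have hSN : S = N := by
    refine le_antisymm hS.le ?_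
    conv_lhs => rw [← hS.iSup_conj_eq hN hmin]
    refine iSup_le fun h => ?_
    by_contra hh
    exact e.two_factors_false hN hN0 hns hmin h2 hS (hS.map_conj hN h) fun heq => hh heq.ge
  subst hSN
  exact ⟨S, hN, hsi, hna, hcen⟩

end ExtPrim

end CfsgLib.PermAffine
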